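import Cfsg.Agent.H6.Fis6
import Cfsg.Agent.H6.Fi22I.Main

set_option autoImplicit false
set_option maxRecDepth 100000
set_option Elab.async false

namespace Cfsg.H6.Fi23R

def PL : List (List ℕ × List ℕ × List ℕ) := [([7], [1], [2,1,3,2,4,3,5,4,6,5,7,6]), ([1], [3], []), ([1], [5], [4,3,5,4]), ([1], [8], [4,3,8,4]), ([1], [4,8,5,4,3,4,5,8,4], [4,5,8,4]), ([1], [2,3,4,8,5,4,3,2,1,2,3,4,5,8,4,3,2], [4,3,5,4,6,5,2,3,4,8,5,4,3,2,1,2,3,4,5,8,4,3,2,6]), ([1], [6,5,4,8,3,4,5,2,3,4,8,6,5,4,3,2,1,2,3,4,5,6,8,4,3,2,5,4,3,8,4,5,6], [4,5,6,8,2,3,4,8,5,4,3,2,1,2,3,4,5,8,4,3,2,4,5,6]), ([7], [3], [2,1,3,2,4,3,5,4,6,5,7,6,2,1,3,2]), ([3], [5], [2,1,3,2,4,3,2,3,4,1,5,4,3,2,3,4]), ([3], [8],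 [2,1,3,2,4,3,2,3,4,1,8,4,3,2,3,4]), ([3], [4,8,5,4,3,4,5,8,4], [2,1,3,2,4,3,2,3,4,1,5,4,3,2,3,4,6,5,4,8,5,4,3,4,5,8,4,6]), ([3], [2,3,4,8,5,4,3,2,1,2,3,4,5,8,4,3,2], [2,1,3,2,4,3,2,3,4,5,8,4,3,2,3,4]), ([3], [6,5,4,8,3,4,5,2,3,4,8,6,5,4,3,2,1,2,3,4,5,6,8,4,3,2,5,4,3,8,4,5,6], [2,1,3,2,4,3,2,3,4,5,8,4,3,2,3,4,6,4,8,5,4,3,4,5,8,4,5,6]), ([7], [5], [2,1,3,2,4,3,5,4,6,5,7,6,2,1,3,2,4,3,5,4]), ([5], [8], [2,1,3,2,4,3,5,4,2,1,3,2,6,5,4,5,6,3,8,6,5,4,5,6]), ([5], [4,8,5,4,3,4,5,8,4], [2,1,3,2,4,3,5,4,2,1,4,8,5,4,3,4,5,8,4,2]), ([5], [2,3,4,8,5,4,3,2,1,2,3,4,5,8,4,3,2], [2,1,3,2,4,3,5,4,2,3,4,8,5,4,3,4,5,8,4,2]), ([5], [6,5,4,8,3,4,5,2,3,4,8,6,5,4,3,2,1,2,3,4,5,6,8,4,3,2,5,4,3,8,4,5,6],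 [2,1,3,2,4,3,5,4,2,3,4,8,5,4,3,4,5,8,4,2,6,5,4,5,6,8,3,6,5,4,5,6]), ([7], [8], [2,1,3,2,4,3,5,4,6,5,7,6,2,1,3,2,4,3,8,4]), ([8], [4,8,5,4,3,4,5,8,4], [2,1,3,2,4,3,8,4,2,1,4,8,5,4,3,4,5,8,4,2]), ([8], [2,3,4,8,5,4,3,2,1,2,3,4,5,8,4,3,2], [2,1,3,2,4,3,8,4,2,3,4,8,5,4,3,4,5,8,4,2]), ([8], [6,5,4,8,3,4,5,2,3,4,8,6,5,4,3,2,1,2,3,4,5,6,8,4,3,2,5,4,3,8,4,5,6], [2,1,3,2,4,3,8,4,2,3,4,8,5,4,3,4,5,8,4,2,9,8,4,8,9,5,3,9,8,4,8,9]), ([7], [4,8,5,4,3,4,5,8,4], [2,1,3,2,4,3,5,4,6,5,7,6,2,1,3,2,4,5,8,4]), ([4,8,5,4,3,4,5,8,4], [2,3,4,8,5,4,3,2,1,2,3,4,5,8,4,3,2], [2,1,3,2,4,5,8,3,2,3,4,5,8,4,3,2,3,4]), ([4,8,5,4,3,4,5,8,4], [6,5,4,8,3,4,5,2,3,4,8,6,5,4,3,2,1,2,3,4,5,6,8,4,3,2,5,4,3,8,4,5,6],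 [2,1,3,2,4,5,8,3,2,3,4,5,8,4,3,2,3,4,6,5,4,5,6,8,3,6,5,4,5,6]), ([7], [2,3,4,8,5,4,3,2,1,2,3,4,5,8,4,3,2], [2,1,3,2,4,3,5,4,6,5,7,6,2,3,4,5,8,4,3,2]), ([2,3,4,8,5,4,3,2,1,2,3,4,5,8,4,3,2], [6,5,4,8,3,4,5,2,3,4,8,6,5,4,3,2,1,2,3,4,5,6,8,4,3,2,5,4,3,8,4,5,6], [2,3,4,5,8,4,3,2,4,5,8,4,6,5,4,3,2,3,4,5,6,8,1,6,5,4,3,2,3,4,5,6]), ([7], [6,5,4,8,3,4,5,2,3,4,8,6,5,4,3,2,1,2,3,4,5,6,8,4,3,2,5,4,3,8,4,5,6], [2,1,3,2,4,3,5,4,6,5,7,6,2,3,4,5,8,4,3,2,9,8,4,5,3,4,8,9]), ([6,5,4,8,3,4,5,2,3,4,8,6,5,4,3,2,1,2,3,4,5,6,8,4,3,2,5,4,3,8,4,5,6], [7], [2,3,4,5,8,4,3,2,6,5,4,8,3,4,5,6,9,8,4,5,3,4,8,6,5,4,3,2,3,4,5,6,8,4,3,5,4,8,9,8,7,9,8,4,5,3,4,8,6,5,4,3,2,3,4,5,6,8,4,3,5,4,8,9])]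

theorem nsq {C : Type*} [Group C] {π : C →* Spor.Fi22} {d : C} (h : DC π d) :
    ∀ x, π x * π x = 1 → x * x = 1 :=
  h.nsq Fi22.hev Fi22.main.2.2 (fun _ => Fi22I.classes) (t0 := [1]) (t1 := [3]) (p := [7]) (PL := PL)
    (us := [[1], [3], [5], [8], [4,8,5,4,3,4,5,8,4], [2,3,4,8,5,4,3,2,1,2,3,4,5,8,4,3,2], [6,5,4,8,3,4,5,2,3,4,8,6,5,4,3,2,1,2,3,4,5,6,8,4,3,2,5,4,3,8,4,5,6]]) (by decide +kernel)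

end Cfsg.H6.Fi23R
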